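import Cfsg.Agent.H79.Ward

/-!
Chief factors as modules (with the prime field model exposed); a nilpotency criterion; Ward's
theorem.
-/

namespace Cfsg.Agent.H79

open Module Finset Subgroup H49
open scoped commutatorElement

universe u

variable {G : Type u} [Group G] [Finite G]

/-- The faithful module attached to a solvable chief factor, with its prime field model. -/
theorem exists_chief_rep {U W : Subgroup G} (hc : IsChiefFactor U W) (hU : Group.IsSolvable U) :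
    ∃ (r : ℕ) (_ : Fact r.Prime) (Z : Type u) (_ : Group Z) (_ : Finite Z) (π : G →* Z)
      (V : Type u) (_ : AddCommGroup V) (_ : Module (AlgebraicClosure (ZMod r)) V)
      (_ : FiniteDimensional (AlgebraicClosure (ZMod r)) V)
      (ρ : Z →* End (AlgebraicClosure (ZMod r)) V)
      (V₀ : Type u) (_ : AddCommGroup V₀) (_ : Module (ZMod r) V₀) (_ : Finite V₀)
      (ρ₀ : G →* End (ZMod r) V₀) (e : G → V₀)
      (Ψ : End (ZMod r) V₀ →+* End (AlgebraicClosure (ZMod r)) V),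
      SecRep (MonoidHom.id G) U W ρ₀ e ∧ Function.Injective Ψ ∧ (∀ a, ρ (π a) = Ψ (ρ₀ a)) ∧
      r ∣ Nat.card U ∧ (∀ u ∈ U, u ^ r ∈ W) ∧ Function.Surjective π ∧ Function.Injective ρ ∧
      (∀ a, π a = 1 ↔ ∀ u ∈ U, ⁅a, u⁆ ∈ W) ∧ pCore r Z = ⊥ := by
  obtain ⟨r, hr, hab, hexp, n, hn⟩ := BG.chief_elem_of_solvable hU (isChief_top_iff.2 hc)
  haveI := Fact.mk hr
  obtain ⟨V, _, _, _, ρ, e, h⟩ := exists_secRep (MonoidHom.id G)
    (fun a => normal_iff_top_le_norm.1 hc.2.1 trivial)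
    (fun a => normal_iff_top_le_norm.1 hc.2.2.1 trivial) hc.1.le hab hexp
  obtain ⟨Ψ, hΨ⟩ := exists_baseChange (ZMod r) V
  refine ⟨r, inferInstance, G ⧸ ρ.ker, inferInstance, inferInstance, QuotientGroup.mk' _, _,
    inferInstance, inferInstance, inferInstance, Ψ.toMonoidHom.comp (fth ρ), V, inferInstance,
    inferInstance, inferInstance, ρ, e, Ψ.toRingHom, h, hΨ, fun _ => rfl,
    ((dvd_pow_self r n.succ_ne_zero).trans hn.symm.dvd).trans (relIndex_dvd_card _ _), hexp,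
    QuotientGroup.mk'_surjective _, hΨ.comp (fth_injective ρ),
    fun a => (QuotientGroup.eq_one_iff a).trans (h.eq_one_iff a), ?_⟩
  have := (h.irr fun L h7 h8 h9 => hc.2.2.2 L (normal_iff_top_le_norm.2 fun a _ => h9 a)
    h7 h8).fth.pgroup_le_ker (R := pCore r _) H22.isPGroup_pCore
  rwa [(MonoidHom.ker_eq_bot_iff _).2 (fth_injective ρ), le_bot_iff] at this

theorem mem_of_pow_mem_of_coprime {W : Subgroup G} {x : G} {n : ℕ} (h : x ^ n ∈ W)
    (hc : (orderOf x).Coprime n) : x ∈ W := by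
  have := pow_gcd_mem h (w := orderOf x) (by rw [pow_orderOf_eq_one]; exact W.one_mem)
  rwa [hc.symm.gcd_eq_one, pow_one] at this

/-- An element of a section of exponent `r` is represented by an `r`-element. -/
theorem exists_pelt_mul {U W : Subgroup G} {r : ℕ} (hr : r.Prime) (hexp : ∀ u ∈ U, u ^ r ∈ W)
    {u : G} (hu : u ∈ U) : ∃ y ∈ zpowers u, ∃ w ∈ W, u = y * w ∧ IsPiElt {r} y := by
  obtain ⟨y, hy, z, hz, e, h1, h2⟩ := exists_pi_decomp {r} u
  exact ⟨y, hy, z, mem_of_pow_mem_of_coprime (hexp z (zpowers_le.2 hu hz))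
    ((isPiNat_compl_singleton_iff_coprime hr).1 h2), e, h1⟩

theorem piCoreOf_map_eq_bot {r : ℕ} (hr : r.Prime) (h : pCore r G = ⊥) (M : Subgroup G)
    [M.Normal] : piCoreOf {r} M = ⊥ :=
  le_bot_iff.1 ((piCoreOf_le_of_normal (H := ⊤) _ le_top
    le_normalizer_of_normal).trans (by rw [← pCore_eq_piCoreOf_top hr, h]))

theorem nilpotent_of_sylow_cent (hG : Group.IsSolvable G) {M : Subgroup G} [M.Normal]
    (h : ∀ q s : ℕ, q.Prime → s.Prime → s ≠ q → ∃ P, IsSylowOf s P M ∧ P ≤ 𝒞(piCoreOf {q} M)) :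
    Group.IsNilpotent M := by
  refine nilpotent_of_le (fittingOf_nil M) fun g hg => mem_fitting_of_chief hG hg fun U W hc hU => ?_
  obtain ⟨r, hr, Z, _, _, π, V, _, _, _, ρ, -, hexp, hπ, -, h1, -, -, h3⟩ :=
    exists_chief_lin hc inferInstance
  haveI := hc.2.2.1
  haveI : (M.map π).Normal := Normal.map inferInstance π hπ
  have h4 : IsPi {r} (M.map π) := fun s hs hd => by
    by_contra hsr
    obtain ⟨P, hP, hPc⟩ := h r s hr.out hs hsr
    refine (hP.map π).ne_bot hs rfl hd ((Subgroup.map_eq_bot_iff _).2 fun x hx => (h1 x).2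
      fun u hu => ?_)
    obtain ⟨y, hy, w, hw, rfl, hyr⟩ := exists_pelt_mul hr.out hexp hu
    have h5 : y ∈ piCoreOf {r} M := pcore_fittingOf r M ▸ nilpotent_le_piCoreOf (fittingOf_nil M)
      (zpowers_le.2 (hU (zpowers_le.2 hu hy))) (isPi_zpowers.2 hyr) (mem_zpowers y)
    have h6 : ⁅x, y * w⁆ = y * ⁅x, w⁆ * y⁻¹ := by
      simp only [commutatorElement_def, ← mul_assoc, hPc hx y h5]; group
    rw [h6]
    exact ‹W.Normal›.conj_mem _ (commutator_le_right ⊤ W (commutator_mem_commutator trivial hw)) _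
  have h5 := piCoreOf_map_eq_bot hr.out h3 (M.map π)
  rw [piCoreOf_eq_self h4] at h5
  exact (h1 g).1 (h5.le (mem_map_of_mem π hg))

/-- In a nilpotent centralizer, `r'`-elements fix the fixed vectors of `b`. -/
theorem SecRep.norm_kill {r : ℕ} [hr : Fact r.Prime] {V : Type*} [AddCommGroup V]
    [Module (ZMod r) V] {U W M : Subgroup G} {ρ : G →* End (ZMod r) V} {e : G → V}
    (h : SecRep (MonoidHom.id G) U W ρ e) (hexp : ∀ u ∈ U, u ^ r ∈ W) (hUM : U ≤ M) {b : G}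
    (hW : b ∈ 𝒩(W)) {N : ℕ} (hb : ρ b ^ N = 1) (hc : (orderOf b).Coprime (Nat.card W))
    (hn : Group.IsNilpotent ↥(M ⊓ 𝒞[b])) {g : G} (hg : g ∈ M ⊓ 𝒞[b]) (hg' : IsPiElt {r}ᶜ g) :
    (ρ g - 1) * ∑ i ∈ range N, ρ b ^ i = 0 := LinearMap.ext fun v => by
  obtain ⟨u, hu, e1⟩ := h.surj ((∑ i ∈ range N, ρ b ^ i) v)
  have h1 : ρ b (e u) = e u := by
    have := LinearMap.congr_fun (mul_geom_sum (ρ b) N) v
    rwa [hb, sub_self, End.mul_apply, ← e1, LinearMap.sub_apply, LinearMap.zero_apply,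
      sub_eq_zero] at this
  obtain ⟨w, hw, h2⟩ := lift_cent1 (h.norm b) hW hc hu (by
    have := W.inv_mem ((h.fix_iff b (U.inv_mem hu)).1 (by rw [h.inv hu, map_neg, h1]))
    convert this using 1
    simp only [commutatorElement_def, MonoidHom.id_apply]; group)
  have h3 := mul_mem hu hw.2
  obtain ⟨y, hy, w', hw', e2, hyr⟩ := exists_pelt_mul hr.out hexp h3
  have hyU := zpowers_le.2 h3 hy
  have e3 : e u = e y := by
    have := congrArg e e2
    rwa [h.mul _ hu _ hw.2, h.mul _ hyU _ (h.le hw'), (h.zero _ hw.2).2 hw.1,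
      (h.zero _ (h.le hw')).2 hw', add_zero, add_zero] at this
  have h4 := nilpotent_cent hn (zpowers_le.2 (mem_inf.2 ⟨hUM hyU, zpowers_le.2 h2 hy⟩))
    (zpowers_le.2 hg) (isPi_zpowers.2 hyr) (isPi_zpowers.2 hg') (mem_zpowers y) g (mem_zpowers g)
  rw [End.mul_apply, ← e1, e3, h.sub_one_apply _ hyU, MonoidHom.id_apply,
    commutatorElement_eq_one_iff_mul_comm.2 h4, h.one]; rfl

theorem exists_pi_lift {G' : Type*} [Group G'] (f : G →* G') {π : Set ℕ} {C : Subgroup G} {g : G'}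
    (hg : g ∈ C.map f) (h : IsPiElt π g) : ∃ x ∈ C, f x = g ∧ IsPiElt π x := by
  obtain ⟨x, hx, rfl⟩ := hg
  obtain ⟨y, hy, z, hz, e, h1, h2⟩ := exists_pi_decomp π x
  refine ⟨y, zpowers_le.2 hx hy, ?_, h1⟩
  have h3 : f z = 1 := by
    obtain ⟨k, rfl⟩ := mem_powers_iff_mem_zpowers.2 hz
    exact IsPiElt.eq_one (map_pow f x k ▸ h.pow k) (IsPiNat.of_dvd h2 (orderOf_map_dvd f _))
  rw [e, map_mul, h3, mul_one]

theorem map_inf_cent {G' : Type*} [Group G'] (f : G →* G') {N A : Subgroup G} (hA : A ≤ 𝒩(N))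
    (hc : (Nat.card A).Coprime (Nat.card N)) (hs : Group.IsSolvable A ∨ Group.IsSolvable N) :
    N.map f ⊓ 𝒞(A.map f) = (N ⊓ 𝒞(A)).map f := by
  refine le_antisymm ?_ (map_le_iff_le_comap.2 fun x hx => ⟨mem_map_of_mem f hx.1, by
    rintro _ ⟨a, ha, rfl⟩; rw [← map_mul, hx.2 a ha, map_mul]⟩)
  rintro _ ⟨⟨x, hx, rfl⟩, h⟩
  obtain ⟨r, hr, h'⟩ := coprime_lift_cent (N := f.ker ⊓ N) hA (norm_inf le_normalizer_of_normal hA)
    (coprime_of_le hc le_rfl inf_le_right) (hs.imp id fun h => solvable_of_le h inf_le_right) hx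
    fun a ha => mem_inf.2 ⟨by
      rw [MonoidHom.mem_ker]
      simp only [map_mul, map_inv, mul_assoc, ← mul_assoc (f a), h _ (mem_map_of_mem f ha)]; group,
      by simpa [mul_assoc] using N.mul_mem (N.inv_mem hx) (conj_mem_of_norm hA ha hx)⟩
  exact ⟨x * r, ⟨mul_mem hx hr.2, h'⟩, by rw [map_mul, show f r = 1 from hr.1.1, mul_one]⟩

theorem ward_grp (hG : Group.IsSolvable G) {M A : Subgroup G} [M.Normal] {p : ℕ} (hp : p.Prime)
    (hA : IsElementaryAbelian p A) (hc : Nat.card A = p ^ 2) (hM : (Nat.card M).Coprime p)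
    (hC : M ⊓ 𝒞(A) = ⊥) (hn : ∀ a ∈ A, a ≠ 1 → Group.IsNilpotent ↥(M ⊓ 𝒞[a])) :
    H44.lns 2 M = ⊥ := by
  haveI := Fact.mk hp
  have hN : ∀ (N : Subgroup G) [N.Normal] (s : G), s ∈ 𝒩(N) := fun N _ _ =>
    normal_iff_top_le_norm.1 inferInstance trivial
  refine H44.nilRes_eq_bot_iff.2 (nilpotent_of_le (fittingOf_nil M) fun g hg =>
    mem_fitting_of_chief hG (H44.lns_le _ _ hg) fun U W hch hU => ?_)
  have hUM := hU.trans (fittingOf_le M)
  obtain ⟨r, hr, Z, _, _, π, V, _, _, _, ρ, V₀, _, _, _, ρ₀, e, Ψ, hs, hΨ, h1, -, hexp, hπ, hρ,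
    h2, h3⟩ := exists_chief_rep hch inferInstance
  haveI := hch.2.2.1
  haveI : (M.map π).Normal := Normal.map inferInstance π hπ
  suffices Group.IsNilpotent (M.map π) by
    rw [← H44.nilRes_eq_bot_iff, ← H44.map_nilRes, Subgroup.map_eq_bot_iff] at this
    exact (h2 g).1 (this hg)
  have hord : ∀ a ∈ A, (orderOf a).Coprime (Nat.card M) := fun a ha =>
    coprime_orderOf_of_pow (n := 1) (by rw [pow_one, hA.2 a ha]) hM
  have hn' : ∀ a ∈ A, a ≠ 1 → Group.IsNilpotent ↥(M.map π ⊓ 𝒞[π a]) := fun a ha ha1 => by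
    rw [map_inf_cent1 π (hN M a) (hord a ha)]; exact nilpotent_map (hn a ha ha1) π
  by_cases h4 : ∃ a ∈ A, a ≠ 1 ∧ π a = 1
  · obtain ⟨a, ha, ha1, h4⟩ := h4
    have := hn' a ha ha1
    rwa [h4, inf_eq_left.2 fun x _ => mem_cent1.2 (by simp)] at this
  push Not at h4
  have hc' : Nat.card (A.map π) = p ^ 2 := by
    rw [← hc, ← A.range_subtype, MonoidHom.map_range, A.range_subtype]
    exact (Nat.card_congr (MonoidHom.ofInjective ((injective_iff_map_eq_one _).2 fun a h =>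
      Subtype.ext (by_contra fun h' => h4 a a.2 h' h))).toEquiv).symm
  have hA' := H50.elem_map hA π
  have hM' : (Nat.card (M.map π)).Coprime p := hM.coprime_dvd_left (card_map_dvd _ _)
  have hcop : (Nat.card (A.map π)).Coprime (Nat.card (M.map π)) := hc' ▸ hM'.symm.pow_left 2
  have hZ : Group.IsSolvable Z := solvable_of_surjective hπ
  have hC' : M.map π ⊓ 𝒞(A.map π) = ⊥ := by
    rw [map_inf_cent π le_normalizer_of_normal (hc ▸ hM.symm.pow_left 2) (.inl inferInstance), hC,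
      Subgroup.map_bot]
  refine nilpotent_of_sylow_cent hZ fun q s hq hs' hsq => ?_
  obtain ⟨P, hP, hAP⟩ := coprime_hall_exists le_normalizer_of_normal hcop inferInstance
    inferInstance {s}
  refine ⟨P, hP, ?_⟩
  by_cases hqr : q = r
  · rw [hqr, piCoreOf_map_eq_bot hr.out h3]; exact cent_symm bot_le
  refine coprime_le_of_cent1 hA'.1 (not_isCyclic_of_p2 hp hA' hc') hAP
    (coprime_of_le hcop le_rfl hP.le) ?_
  rintro _ ⟨a, ha, rfl⟩ ha1
  set O := piCoreOf {q} (M.map π)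
  have hO : ∀ B : Subgroup Z, B ≤ 𝒩(O) := fun B => norm_piCoreOf _ le_normalizer_of_normal
  have hOM : O ≤ M.map π := piCoreOf_le _ _
  have hQO : ⁅O, P ⊓ 𝒞[π a]⁆ ≤ O := commutator_le_left_of_norm (hO _)
  have hQq : IsPi {q} ⁅O, P ⊓ 𝒞[π a]⁆ := (piCoreOf_pi _ _).of_le hQO
  have hPs : IsPi {q}ᶜ (P ⊓ 𝒞[π a]) := (hP.pi.inf_left _).compl_singleton_of_ne hsq
  have hAP' : A.map π ≤ 𝒩(P ⊓ 𝒞[π a]) := norm_inf hAP (cent_zpowers (π a) ▸ norm_cent
    (norm_of_cent (le_cent_of_abelian hA'.1 le_rfl (zpowers_le.2 (mem_map_of_mem π ha)))))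
  have ha1' : a ≠ 1 := fun h => ha1 (by rw [h, map_one])
  have := ward_lin ρ (Q := ⁅O, P ⊓ 𝒞[π a]⁆) (natCast_ne_zero_of_coprime
    ((isPi_compl_singleton_iff_coprime hr.out).1 (hQq.compl_singleton_of_ne hqr))) hQq.nilpotent
    hp hA' hc' (norm_commutator (hO _) hAP') (hM'.coprime_dvd_left (card_dvd_of_le (hQO.trans hOM)))
    (le_bot_iff.1 ((inf_le_inf_right _ (hQO.trans hOM)).trans hC'.le)) ?_ hAP'
    (le_norm_commutator_right _ _) (hM'.coprime_dvd_left (card_dvd_of_le (inf_le_left.trans hP.le)))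
    (le_bot_iff.1 ((inf_le_inf_right _ (inf_le_left.trans hP.le)).trans hC'.le))
    (mem_map_of_mem π ha) ha1 inf_le_right
    (coprime_comm_comm (hO _) (hPs.coprime' (piCoreOf_pi _ _)) (.inl inferInstance))
    (nilpotent_cent (hn' a ha ha1') (inf_le_inf_right _ (hQO.trans hOM))
      (inf_le_inf_right _ hP.le) (hQq.inf_left _) hPs)
  · rw [(MonoidHom.ker_eq_bot_iff _).2 hρ, le_bot_iff] at this
    exact cent_symm (H49.commutator_eq_bot_iff.1 this)
  rintro _ ⟨b, hb, rfl⟩ hb1 x hx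
  obtain ⟨y, hy, rfl, hy'⟩ := exists_pi_lift π (π := {r}ᶜ) (map_inf_cent1 π (hN M b) (hord b hb) ▸
    inf_le_inf_right _ (hQO.trans hOM) hx) ((hQq.compl_singleton_of_ne hqr).elt hx.1)
  have := congrArg Ψ (hs.norm_kill hexp hUM (hN W b) (N := p) (by rw [← map_pow, hA.2 b hb, map_one])
    ((hord b hb).coprime_dvd_right (card_dvd_of_le (hch.1.le.trans hUM)))
    (hn b hb fun h => hb1 (by rw [h, map_one])) hy hy')
  simpa [h1] using this

end Cfsg.Agent.H79
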