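import Cfsg.Agent.H79.Exc
import Cfsg.Agent.H79.Ward2
import Cfsg.Agent.H81.TI

/-!
Gross's theorem on fixed point free automorphisms of order `2 ^ n`.
-/

namespace Cfsg.Agent.H79

open Module Finset Subgroup H49
open scoped commutatorElement

universe u

variable {K : Type*} [Field K] {V : Type*} [AddCommGroup V] [Module K V] [IsAlgClosed K]
  [FiniteDimensional K V] {X : Type*} [Group X] [Finite X]

theorem gross_g1 (ρ : X →* End K V) (hρ : Function.Injective ρ) {N : Subgroup X} {s : X} {k : ℕ}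
    (hk : 1 ≤ k) (hs : s ∈ 𝒩(N)) (hsn : s ^ 2 ^ (k + 1) = 1) (hN : (Nat.card N).Coprime 2)
    (hK : (Nat.card N : K) ≠ 0) (h2 : (2 : K) ≠ 0) (h : (ρ s - 1) * (ρ s ^ 2 ^ k + 1) = 0)
    (hτ : s ^ 2 ^ k ∉ 𝒞(N)) :
    ∃ q m : ℕ, q.Prime ∧ q ∣ Nat.card N ∧ 1 ≤ m ∧ 2 ^ (k + 1) = q ^ m + 1 := by
  have hτs := pow_mem (mem_zpowers s) (2 ^ k)
  obtain ⟨q, Q, hPQ, U, hU, hq, hpq, hqK, hQN, hQ, -, hC, hcl, -, -, hU0, hUi, g, hne⟩ :=
    exists_crit_irr ρ hρ Nat.prime_two (P := zpowers s) (IsPGroup.of_card_dvd_pow (n := k + 1)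
      (by rw [Nat.card_zpowers]; exact orderOf_dvd_of_pow_eq_one hsn)) (zpowers_le.2 hs) hN hK hτs
      (abelian_iff.1 inferInstance hτs) hτ
  have hs' := hPQ (mem_zpowers s)
  have he : ∀ j, 1 ≤ j → (-ρ s) ^ 2 ^ j = ρ s ^ 2 ^ j := fun j hj =>
    Even.neg_pow (Nat.even_pow.2 ⟨even_two, by omega⟩) _
  have hn : (-ρ s) ^ 2 ^ (k + 1) = 1 := by rw [he _ (by omega), ← map_pow, hsn, map_one]
  obtain ⟨e, k', m, hek, hdvd, hm, hpk, -⟩ := amb_core Nat.prime_two hq hpq hQ hqK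
    (ρ.comp Q.subtype) hs' hsn (a := -ρ s) (fun g => by rw [neg_mul, rep_cjAut, mul_neg]) hn
    (norm_eq_zero_of_fix hn fun v hv => by
      have h3 := LinearMap.congr_fun h v
      have h4 : ρ s v = -v := neg_eq_iff_eq_neg.1 hv
      rw [End.mul_apply, LinearMap.add_apply, ← he k hk, pow_apply_eq_self hv] at h3
      have h5 : ((2 : K) * 2) • v = 0 := by
        simp only [End.one_apply, map_add, LinearMap.sub_apply, h4, LinearMap.zero_apply] at h3
        rw [← neg_eq_zero, ← h3]; module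
      exact (smul_eq_zero.1 h5).resolve_left (mul_ne_zero h2 h2))
    hU hU0 hUi (comm_mem_rad hcl) ((le_inf inf_le_left hC).trans cent_le_radS)
    ⟨g, by rwa [cjAut_pow]⟩
  haveI := Fact.mk hq
  haveI := Fintype.ofFinite Q
  refine ⟨q, m, hq, ((isPi_of_isPGroup hq hQ).dvd_card fun h => hne ?_).trans (card_dvd_of_le hQN),
    hm, ?_⟩
  · subst h; congr 1; exact Subsingleton.elim _ _
  rcases e with _ | e
  · rwa [← hek, zero_add]
  exfalso
  obtain ⟨f, b, hf, hfρ, hfb, hb⟩ := hUi.exists_ext (ρ.comp Q.subtype) (f₀ := U.subtype)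
    (fun h => hU0 (by rw [← U.range_subtype, h, LinearMap.range_zero])) (fun _ _ => rfl)
    ((hdvd _).2 (pow_dvd_pow 2 (by omega : e + 1 ≤ k))) (pow_comm_rep (rep_cjAut ρ hs') _)
  have h3 : b = (-1 : K) • 1 := LinearMap.ext fun w => hf (by
    have h4 := congrArg (proj hU.res (ρ.comp Q.subtype)) (LinearMap.congr_fun h (f w))
    rw [End.mul_apply, LinearMap.add_apply, ← hfb, End.one_apply, ← map_add, LinearMap.sub_apply,
      map_sub, hUi.proj_kill _ hfρ (β := cjAut Q hs') (fun h => by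
        have := Nat.le_of_dvd one_pos ((hdvd 1).1 (by rwa [pow_one]))
        have := Nat.one_lt_two_pow (n := e + 1) (by omega)
        omega) (rep_cjAut ρ hs'), End.one_apply, zero_sub, LinearMap.zero_apply, map_zero,
      neg_eq_zero] at h4
    have := hUi.eq_zero_of_proj (card_ne_zero_of_pgroup hq hqK hQ) _ hfρ h4
    rw [map_add, add_eq_zero_iff_eq_neg] at this
    simp [this])
  have := eq_of_smul_one (N := 2) (by rw [h3, smul_pow]; simp) two_ne_zero hb h3 1 g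
  rw [pow_one, cjAut_pow] at this
  exact hne this

omit [IsAlgClosed K] [FiniteDimensional K V] in
theorem mem_norm_radS_of_cent {Q : Subgroup X} {σ : Q →* End K V} {x : X} (hx : x ∈ 𝒩(Q))
    (h : x ∈ 𝒞(⁅Q, Q⁆)) : x ∈ 𝒩(radS σ) := mem_normalizer_of_forall fun g hg => by
  lift g to Q using radS_le hg
  refine (coe_mem_radS (g := cjAut Q hx g)).2 (mem_rad_iff_comm.2 fun c => ?_)
  obtain ⟨d, rfl⟩ := (cjAut Q hx).surjective c
  rw [← map_commutatorElement, show cjAut Q hx ⁅g, d⁆ = ⁅g, d⁆ from Subtype.ext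
    (mul_inv_eq_iff_eq_mul.2 (h _ (commutator_mem_commutator g.2 d.2)).symm)]
  exact mem_rad_iff_comm.1 (coe_mem_radS.1 hg) d

omit [Finite X] in
theorem le_of_comm_comm {P T Q L : Subgroup X} (h1 : P ≤ ⁅P, T⁆) (h2 : Q ≤ ⁅Q, P⁆) (hPQ : P ≤ 𝒩(Q))
    (hP : P ≤ 𝒩(L)) (hT : T ≤ 𝒩(L)) (hQ : Q ≤ 𝒩(L)) (h : ⁅Q, T⁆ ≤ L) : Q ≤ L := by
  rw [← quo_eq_bot_iff ((commutator_le_sup _ _).trans (sup_le hQ hT)), quo_commutator hQ hT,
    H49.commutator_eq_bot_iff] at h
  have h3 := (quo_mono L h1).trans ((quo_commutator hP hT).le.trans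
    (H50.commutator_cent_of_cent (cent_symm h) (quo_norm L hPQ)))
  rw [← quo_eq_bot_iff hQ, eq_bot_iff]
  exact (quo_mono L h2).trans ((quo_commutator hQ hP).trans
    (H49.commutator_eq_bot_iff.2 (cent_symm h3))).le

omit [Finite X] in
theorem cj_norm_invol {y u : X} (h : y * y = 1) :
    (y * u * y⁻¹ * u)⁻¹ * (y * (y * u * y⁻¹ * u) * y⁻¹) = ⁅u⁻¹, (y * u * y⁻¹)⁻¹⁆ := by
  have h1 : y * (y * u * y⁻¹ * u) * y⁻¹ = u * (y * u * y⁻¹) := by
    rw [← mul_assoc y, ← mul_assoc y, ← mul_assoc y, h, inv_eq_of_mul_eq_one_right h]; group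
  rw [h1, commutatorElement_def]; group

theorem gross_lin (ρ : X →* End K V) (hρ : Function.Injective ρ) {O P : Subgroup X} {s : X}
    {n q t : ℕ} (hq : q.Prime) (ht : t.Prime) (hq2 : 2 ≠ q) (ht2 : t ≠ 2) (hqt : t ≠ q)
    (hO : IsPGroup q O) (hP : IsPGroup t P) (hqK : (q : K) ≠ 0) (h2 : (2 : K) ≠ 0)
    (hsO : s ∈ 𝒩(O)) (hsP : s ∈ 𝒩(P)) (hPO : P ≤ 𝒩(O)) (hsn : s ^ 2 ^ (n + 1) = 1)
    (h0 : ∑ i ∈ range (2 ^ (n + 1)), ρ s ^ i = 0) (hPτ : ⁅P, zpowers (s ^ 2 ^ n)⁆ = P) :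
    P ≤ 𝒞(O) := by
  haveI := Fact.mk hq
  haveI := Fact.mk ht
  by_contra hne
  have hO2 := coprime_of_pgroup Nat.prime_two hq hq2 hO
  have hso : (Nat.card (zpowers s)).Coprime (Nat.card O) := by
    rw [Nat.card_zpowers]; exact coprime_orderOf_of_pow hsn hO2
  obtain ⟨q', Q, -, -, hQO, -, hA, hQP, hcomm, hC, hmin⟩ := exists_critical (A := zpowers s ⊔ P)
    (B := P) (sup_le (zpowers_le.2 hsO) hPO) (coprime_sup_right (.inl (zpowers_le.2 hsP)) hso.symm
      (H50.coprime_card_of_pgroup hP (coprime_of_pgroup ht hq hqt hO))).symm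
    (.inr (H50.solvable_of_pgroup hO)) le_sup_right (sup_le (zpowers_le.2 hsP) le_normalizer)
    fun h => hne (cent_symm h)
  have hQ := hO.to_le hQO
  have hQ2 := coprime_of_pgroup Nat.prime_two hq hq2 hQ
  have hs := hA (mem_sup_left (mem_zpowers s))
  have hPQ := le_sup_right.trans hA
  have hΦ := le_inf (H50.frattiniOf_le Q) (hmin _ (frattiniOf_lt fun h => hQP (h ▸ bot_le))
    (hA.trans (H50.norm_le_norm_frattiniOf Q)))
  have hΦ' := hΦ.trans (le_inf inf_le_left hC)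
  have key : ∀ L : Subgroup X, P ≤ 𝒩(L) → s ^ 2 ^ n ∈ 𝒩(L) → Q ≤ 𝒩(L) →
      ⁅Q, zpowers (s ^ 2 ^ n)⁆ ≤ L → Q ≤ L := fun L h1 h2 h3 h4 =>
    le_of_comm_comm hPτ.ge hcomm.ge hPQ h1 (zpowers_le.2 h2) h3 h4
  haveI := Fintype.ofFinite Q
  have hK := card_ne_zero_of_pgroup hq hqK hQ
  obtain ⟨g, hg⟩ : ∃ g : Q, (ρ.comp Q.subtype) (cjAut Q (pow_mem hs (2 ^ n)) g) ≠
      (ρ.comp Q.subtype) g := by
    by_contra h
    push Not at h
    refine hQP ((key ⊥ le_normalizer_of_normal (normal_iff_top_le_norm.1 inferInstance trivial)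
      le_normalizer_of_normal (H49.commutator_eq_bot_iff.2 ?_).le).trans bot_le)
    rw [cent_zpowers]
    exact fun g hg => mem_cent1.2 (mul_inv_eq_iff_eq_mul.1 (hρ (h ⟨g, hg⟩))).symm
  obtain ⟨U, hU, hU0, hUi, hne'⟩ := exists_irr_ne _ hK hg
  haveI : Nontrivial U := Submodule.nontrivial_iff_ne_bot.2 hU0
  obtain ⟨e, k, b, hek, hdvd, hb, hbk, hb0⟩ := clifford_at _ hK (rep_cjAut ρ hs) Nat.prime_two
    (by rw [← map_pow, hsn, map_one]) (cjAut_pow_eq_one hs hsn) h0 hU hU0 hUi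
  obtain rfl : n = e + k := by omega
  rw [cjAut_pow] at hb
  have hτ : (s ^ 2 ^ e) ^ 2 ^ k = s ^ 2 ^ (e + k) := by rw [← pow_mul, ← pow_add]
  have hsn' : (s ^ 2 ^ e) ^ 2 ^ (k + 1) = 1 := by rw [← pow_mul, ← pow_add, ← add_assoc, hsn]
  have hS : ∀ j, e ≤ j → cjAut Q (pow_mem hs (2 ^ j)) ∈ isoStab hU.res := fun j hj =>
    cjAut_pow hs _ ▸ (hdvd _).2 (pow_dvd_pow 2 hj)
  have hτS := hS (e + k) (by omega)
  have hτR := mem_norm_radS _ hτS
  have hcl : ⁅Q, Q⁆ ≤ radS hU.res := (H50.der_le_frattiniOf hQ).trans (hΦ'.trans cent_le_radS)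
  have hPR : P ≤ 𝒩(radS hU.res) := fun x hx => mem_norm_radS_of_cent (hPQ hx)
    (cent_symm ((H50.der_le_frattiniOf hQ).trans (hΦ.trans inf_le_right)) hx)
  have hQR : ¬ Q ≤ radS hU.res := fun h => hne' (hUi.res_cj _ hτS (h g.2))
  have hco : ∀ L ≤ Q, (orderOf (s ^ 2 ^ (e + k))).Coprime (Nat.card L) := fun L hL =>
    coprime_orderOf_of_pow (n := 1) (by rw [pow_one, ← pow_mul, ← pow_succ, hsn])
      (hQ2.coprime_dvd_left (card_dvd_of_le hL))
  obtain ⟨⟨m, hm, hqm, -⟩, hcen⟩ := hUi.exc_struct Nat.prime_two hq hq2 hQ hqK (by simpa using h2)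
    hcl _ hsn' hb hbk (fun v => eq_zero_of_norm_eq_zero (by simpa using h2) hb0) fun h => hQR
      (key _ hPR hτR norm_radS ((commutator_mono (hUi.le_perpS_sup hcl _ hτS (hco Q le_rfl))
        le_rfl).trans (H50.commutator_sup_left_le (zpowers_le.2 hτR) (perpS_le.trans norm_radS)
          (inf_le_left.trans norm_radS) ((commutator_mono (hτ ▸ h) le_rfl).trans
            (commutator_le_left_of_norm (zpowers_le.2 hτR))) ((H49.commutator_eq_bot_iff.2
              (by rw [cent_zpowers]; exact inf_le_right)).le.trans bot_le))))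
  rw [hτ] at hcen
  have hk : 1 ≤ k := by
    by_contra h
    obtain rfl : k = 0 := by omega
    have := Nat.one_lt_pow (n := m) (by omega) hq.one_lt
    omega
  set H := zpowers (s ^ 2 ^ e) ⊔ P
  have hH : ∀ L : Subgroup X, s ^ 2 ^ e ∈ 𝒩(L) → P ≤ 𝒩(L) → ∀ a : H, H.subtype a ∈ 𝒩(L) :=
    fun L h1 h2 a => sup_le (zpowers_le.2 h1) h2 a.2
  obtain ⟨W, _, _, _, φ, ε, hsec⟩ := exists_secRep (r := q) H.subtype (U := Q) (W := radS hU.res)
    (hH _ (pow_mem hs _) hPQ) (hH _ (mem_norm_radS _ (hS e le_rfl)) hPR) radS_le hcl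
    fun u hu => cent_le_radS (hΦ' (H50.pow_mem_frattiniOf hQ hu))
  obtain ⟨Ψ, hΨ⟩ := exists_baseChange (ZMod q) W
  let s₀ : H := ⟨s ^ 2 ^ e, mem_sup_left (mem_zpowers _)⟩
  let π := QuotientGroup.mk' φ.ker
  have hcard := (card_map_dvd (P.subgroupOf H) π).trans
    (card_subgroupOf_of_le (le_sup_right : P ≤ H)).dvd
  obtain ⟨q', m', hq', hq't, hm', h⟩ := gross_g1 (Ψ.toMonoidHom.comp (fth φ))
    (hΨ.comp (fth_injective φ)) (N := (P.subgroupOf H).map π) (s := π s₀) hk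
    (mem_norm_map π (mem_norm_subgroupOf (pow_mem hsP _)))
    (by rw [← map_pow, show s₀ ^ 2 ^ (k + 1) = 1 from Subtype.ext hsn', map_one])
    ((coprime_of_pgroup Nat.prime_two ht ht2.symm hP).coprime_dvd_left hcard)
    (natCast_ne_zero_of_coprime ((coprime_of_pgroup hq ht hqt.symm hP).coprime_dvd_left hcard))
    (by simpa using natCast_ne_zero_of_coprime ((Nat.coprime_primes Nat.prime_two hq).2 hq2))
    (by
      suffices (φ s₀ - 1) * (φ (s₀ ^ 2 ^ k) + 1) = 0 by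
        have := congrArg Ψ this
        rw [map_mul, map_sub, map_add, map_one, map_zero, map_pow, map_pow] at this
        exact this
      refine LinearMap.ext fun v => ?_
      obtain ⟨u, hu, rfl⟩ := hsec.surj v
      have h1 := conj_mem_of_normalizer (pow_mem hs (2 ^ (e + k))) hu
      obtain ⟨r, hr, h3⟩ := lift_cent1 (pow_mem hs _) hτR (hco _ radS_le) (mul_mem h1 hu) (by
        have h4 : s ^ 2 ^ (e + k) * s ^ 2 ^ (e + k) = 1 := by rw [← pow_two, ← pow_mul, ← pow_succ, hsn]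
        rw [cj_norm_invol h4]
        exact hcl (commutator_mem_commutator (inv_mem hu) (inv_mem h1)))
      rw [End.mul_apply, LinearMap.add_apply, hsec.conj _ _ hu, End.one_apply,
        ← add_zero (_ + ε u), ← (hsec.zero _ hr.2).2 hr.1]
      simp only [Subgroup.subtype_apply, Subgroup.coe_pow, s₀, hτ]
      rw [← hsec.mul _ h1 _ hu, ← hsec.mul _ (mul_mem h1 hu) _ hr.2,
        hsec.sub_one_apply _ (mul_mem (mul_mem h1 hu) hr.2)]
      have h5 := hcen _ ⟨mul_mem (mul_mem h1 hu) hr.2, h3⟩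
      exact (hsec.zero _ (radS_le h5)).2 h5)
    (fun h => hQR (by
      have h1 : ⁅P.subgroupOf H, zpowers (s₀ ^ 2 ^ k)⁆ = P.subgroupOf H :=
        map_injective H.subtype_injective (by
          rw [map_commutator, MonoidHom.map_zpowers, map_subgroupOf_eq_of_le le_sup_right]
          rw [← hτ] at hPτ; exact hPτ)
      have h3 : (P.subgroupOf H).map π = ⊥ := by
        rw [← h1, map_commutator, H49.commutator_eq_bot_iff, MonoidHom.map_zpowers, map_pow]
        exact cent_symm (zpowers_le.2 h)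
      rw [Subgroup.map_eq_bot_iff, QuotientGroup.ker_mk'] at h3
      refine hcomm.ge.trans ?_
      rw [Subgroup.commutator_comm, commutator_le]
      exact fun x hx u hu => (hsec.eq_one_iff ⟨x, mem_sup_right hx⟩).1 (h3 hx) u hu))
  obtain ⟨j, hj⟩ := IsPGroup.iff_card.1 hP
  have h3 := (Nat.prime_dvd_prime_iff_eq hq' ht).1 (hq'.dvd_of_dvd_pow (hj ▸ hq't.trans hcard))
  subst h3
  exact hqt ((Nat.prime_dvd_prime_iff_eq hq' hq).1 (hq'.dvd_of_dvd_pow (n := m)
    ((show q' ^ m' = q ^ m by omega) ▸ dvd_pow_self q' (by omega))))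

variable {G : Type u} [Group G] [Finite G]

theorem comm_mem_of_cent_pcore {M U W : Subgroup G} [M.Normal] [W.Normal] {r : ℕ} (hr : r.Prime)
    (hexp : ∀ u ∈ U, u ^ r ∈ W) (hU : U ≤ fittingOf M) {x : G} (hx : x ∈ 𝒞(piCoreOf {r} M))
    {u : G} (hu : u ∈ U) : ⁅x, u⁆ ∈ W := by
  obtain ⟨y, hy, w, hw, rfl, hyr⟩ := exists_pelt_mul hr hexp hu
  have h5 : y ∈ piCoreOf {r} M := pcore_fittingOf r M ▸ nilpotent_le_piCoreOf (fittingOf_nil M)
    (zpowers_le.2 (hU (zpowers_le.2 hu hy))) (isPi_zpowers.2 hyr) (mem_zpowers y)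
  have h6 : ⁅x, y * w⁆ = y * ⁅x, w⁆ * y⁻¹ := by
    simp only [commutatorElement_def, ← mul_assoc, hx y h5]; group
  rw [h6]
  exact ‹W.Normal›.conj_mem _ (commutator_le_right ⊤ W (commutator_mem_commutator trivial hw)) _

theorem nilpotent_le_of_pcore {F Y : Subgroup G} (hF : Group.IsNilpotent F)
    (h : ∀ t : ℕ, t.Prime → t ∣ Nat.card F → piCoreOf {t} F ≤ Y) : F ≤ Y :=
  H81.le_of_forall_primePow fun x hx t b ht hd e => h t ht hd (nilpotent_le_piCoreOf hF
    (zpowers_le.2 hx) (isPi_zpowers.2 (e ▸ isPiNat_singleton_pow ht b :)) (mem_zpowers x))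

theorem comm_mem_fitting_of_sylow (hG : Group.IsSolvable G) {M : Subgroup G} [M.Normal] {y : G}
    (hy : (orderOf y).Coprime (Nat.card M))
    (h : ∀ q t : ℕ, q.Prime → t.Prime → t ≠ q → t ∣ Nat.card M →
      ∃ P, IsSylowOf t P M ∧ ⁅P, zpowers y⁆ ≤ 𝒞(piCoreOf {q} M)) {m : G} (hm : m ∈ M) :
    ⁅y, m⁆ ∈ fittingOf M := by
  refine mem_fitting_of_chief hG (commutator_le_right ⊤ M (commutator_mem_commutator trivial hm))
    fun U W hc hU => ?_
  obtain ⟨r, hr, Z, _, _, π, V, _, _, _, ρ, -, hexp, hπ, -, h1, -, -, h3⟩ :=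
    exists_chief_lin hc inferInstance
  haveI := hc.2.2.1
  haveI : (M.map π).Normal := Normal.map inferInstance π hπ
  have h4 : fittingOf (M.map π) ≤ 𝒞(zpowers (π y)) :=
    nilpotent_le_of_pcore (fittingOf_nil _) fun t ht hd => by
      obtain ⟨P, hP, hPc⟩ := h r t hr.out ht (by
        rintro rfl
        exact ht.one_lt.ne' (Nat.Coprime.eq_one_of_dvd (coprime_fittingOf ht h3 _).symm hd))
        (hd.trans ((card_dvd_of_le (fittingOf_le _)).trans (card_map_dvd _ _)))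
      refine ((piCoreOf_fittingOf_le _ _).trans (hP.map π).piCoreOf_le).trans ?_
      rw [← H49.commutator_eq_bot_iff, ← MonoidHom.map_zpowers, ← map_commutator,
        Subgroup.map_eq_bot_iff]
      exact fun x hx => (h1 x).2 fun u => comm_mem_of_cent_pcore hr.out hexp hU (hPc hx)
  have h5 := BG.l1_4' (A := zpowers (π y)) (H := M.map π) le_normalizer_of_normal
    (by rw [Nat.card_zpowers]
        exact (hy.coprime_dvd_left (orderOf_map_dvd _ _)).coprime_dvd_right (card_map_dvd _ _))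
    (solvable_map inferInstance π) (cent_symm h4) (mem_zpowers _)
  rw [mem_cent_map_iff] at h5
  exact (h1 _).1 (h5 m hm)

theorem mem_fitting_map_of_nilRes {M D : Subgroup G} [M.Normal] [D.Normal] [(fittingOf M).Normal]
    (hD : D ≤ M) (h : H44.nilRes D ≤ fittingOf M) :
    D.map (QuotientGroup.mk' (fittingOf M)) ≤ fittingOf (M.map (QuotientGroup.mk' (fittingOf M))) := by
  haveI : (D.map (QuotientGroup.mk' (fittingOf M))).Normal :=
    Normal.map inferInstance _ (QuotientGroup.mk'_surjective _)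
  refine le_fittingOf (map_mono hD) le_normalizer_of_normal ?_
  rwa [← H44.nilRes_eq_bot_iff, ← H44.map_nilRes, Subgroup.map_eq_bot_iff, QuotientGroup.ker_mk']

theorem gross_nilRes (hG : Group.IsSolvable G) {M : Subgroup G} [M.Normal] {s : G} {n k : ℕ}
    (hk : s ^ 2 ^ k = 1) (hsn : s ^ 2 ^ (n + 1) ∈ 𝒞(M)) (hM : (Nat.card M).Coprime 2)
    (hC : M ⊓ 𝒞[s] = ⊥) {m : G} (hm : m ∈ M) :
    H44.nilRes (normalClosure {⁅s ^ 2 ^ n, m⁆}) ≤ fittingOf M := by
  have hN : ∀ {Y : Type u} [Group Y] (N : Subgroup Y) [N.Normal] (s : Y), s ∈ 𝒩(N) :=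
    fun N _ _ => normal_iff_top_le_norm.1 inferInstance trivial
  have hD : normalClosure {⁅s ^ 2 ^ n, m⁆} ≤ M := normalClosure_le_normal (by
    simpa using commutator_le_right ⊤ M (commutator_mem_commutator trivial hm))
  refine fun g hg => mem_fitting_of_chief hG (hD (H44.nilRes_le _ hg)) fun U W hc hU => ?_
  have hUM := hU.trans (fittingOf_le M)
  obtain ⟨r, hr, Z, _, _, π, V, _, _, _, ρ, hrU, -, hπ, hρ, h1, -, h2, h3⟩ :=
    exists_chief_lin hc inferInstance
  haveI := hc.2.1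
  haveI := hc.2.2.1
  haveI : (M.map π).Normal := Normal.map inferInstance π hπ
  haveI := fittingOf_normal (M.map π)
  have hπs : π s ^ 2 ^ (n + 1) = 1 := by
    rw [← map_pow, h1]
    intro u hu
    rw [commutatorElement_eq_one_iff_mul_comm.2 (hsn u (hUM hu)).symm]; exact W.one_mem
  have hM' : (Nat.card (M.map π)).Coprime 2 := hM.coprime_dvd_left (card_map_dvd _ _)
  have h0 := h2 s _ hπs fun u hu => mem_of_comm_mem (hN U s) (hN W s) (coprime_orderOf_of_pow hk
    (hM.coprime_dvd_left (card_dvd_of_le (hc.1.le.trans hUM))))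
    ((inf_le_inf_right _ hUM).trans (hC.le.trans bot_le)) hu
  have hτ : (orderOf (π s ^ 2 ^ n)).Coprime (Nat.card (M.map π)) := coprime_orderOf_of_pow (n := 1)
    (by rw [pow_one, ← pow_mul, ← pow_succ, hπs]) hM'
  have h4 := comm_mem_fitting_of_sylow (solvable_of_surjective hπ) hτ
    (fun q t hq ht htq hd => ?_) (mem_map_of_mem π hm)
  · have h5 : normalClosure {⁅s ^ 2 ^ n, m⁆} ≤ (fittingOf (M.map π)).comap π :=
      normalClosure_le_normal (by simpa [map_commutatorElement] using h4)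
    have h6 := H44.nilRes_eq_bot_iff.2 (nilpotent_of_le (fittingOf_nil _)
      (map_le_iff_le_comap.2 h5))
    rw [← H44.map_nilRes, Subgroup.map_eq_bot_iff] at h6
    exact (h1 g).1 (h6 hg)
  obtain ⟨P, hP, hsP⟩ := coprime_hall_exists (A := zpowers (π s)) (K := M.map π)
    le_normalizer_of_normal (by rw [Nat.card_zpowers]; exact coprime_orderOf_of_pow hπs hM')
    inferInstance (solvable_map inferInstance π) {t}
  refine ⟨P, hP, ?_⟩
  rcases eq_or_ne (piCoreOf {q} (M.map π)) ⊥ with hO | hO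
  · rw [hO]; exact cent_symm bot_le
  have hodd : ∀ x, x ∣ Nat.card (M.map π) → x ≠ 2 := fun x hx e =>
    absurd (Nat.Coprime.eq_one_of_dvd hM'.symm (e ▸ hx)) (by norm_num)
  have hτP := zpowers_le.2 (pow_mem (hsP (mem_zpowers _)) (2 ^ n))
  have hO' : ∀ B : Subgroup Z, B ≤ 𝒩(piCoreOf {q} (M.map π)) := fun B =>
    norm_piCoreOf _ le_normalizer_of_normal
  exact gross_lin ρ hρ hq ht (hodd q (((piCoreOf_pi _ _).dvd_card hO).trans
    (card_dvd_of_le (piCoreOf_le _ _)))).symm (hodd t hd) htq ((piCoreOf_pi _ _).isPGroup hq)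
    ((hP.pi.of_le (commutator_le_left_of_norm hτP)).isPGroup ht)
    (natCast_ne_zero_of_coprime ((Nat.coprime_primes hq hr.out).2 fun e =>
      hO (e ▸ piCoreOf_map_eq_bot hr.out h3 _)))
    (by simpa using natCast_ne_zero_of_coprime
          (hM.coprime_dvd_left (hrU.trans (card_dvd_of_le hUM))).symm)
    (hO' ⊤ trivial) (norm_commutator hsP (norm_of_cent (le_cent_of_abelian
      (C := zpowers (π s)) inferInstance le_rfl (zpowers_le.2 (pow_mem (mem_zpowers _) _))))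
        (mem_zpowers _)) (hO' _) hπs h0 (coprime_comm_comm hτP (by
          rw [Nat.card_zpowers]; exact hτ.coprime_dvd_right (card_dvd_of_le hP.le))
          (.inl inferInstance))

theorem gross_lns {k : ℕ} (n : ℕ) :
    ∀ (G : Type u) [Group G] [Finite G] (M : Subgroup G) [M.Normal] (s : G), Group.IsSolvable G →
      s ^ 2 ^ k = 1 → s ^ 2 ^ (n + 2) ∈ 𝒞(M) → (Nat.card M).Coprime 2 → M ⊓ 𝒞[s] = ⊥ →
      H44.lns (2 * n + 2) M = ⊥ := by
  induction n with
  | zero => exact fun G _ _ M _ s => shult_lns Nat.prime_two 2 (.inr le_rfl) G M s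
  | succ n ih =>
    intro G _ _ M _ s hG hk h hM hC
    haveI := fittingOf_normal M
    set π := QuotientGroup.mk' (fittingOf M)
    haveI : (M.map π).Normal := Normal.map inferInstance _ (QuotientGroup.mk'_surjective _)
    haveI := fittingOf_normal (M.map π)
    set π' := QuotientGroup.mk' (fittingOf (M.map π))
    haveI : (M.map (π'.comp π)).Normal := Normal.map inferInstance _
      ((QuotientGroup.mk'_surjective _).comp (QuotientGroup.mk'_surjective _))
    refine lns_succ_of_quo (lns_succ_of_quo (n := 2 * n + 2) ?_)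
    rw [Subgroup.map_map]
    refine ih _ _ (π'.comp π s) inferInstance (by rw [← map_pow, hk, map_one]) ?_
      (hM.coprime_dvd_left (card_map_dvd _ _)) (map_inf_cent1_eq_bot _
        (normal_iff_top_le_norm.1 inferInstance trivial) (coprime_orderOf_of_pow hk hM) hC)
    rw [← map_pow, mem_cent_map_iff]
    exact fun m hm => (QuotientGroup.eq_one_iff _).2 (mem_fitting_map_of_nilRes
      (normalClosure_le_normal (by
        simpa using commutator_le_right ⊤ M (commutator_mem_commutator trivial hm)))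
      (gross_nilRes hG hk h hM hC hm) (mem_map_of_mem _ (subset_normalClosure rfl)))

end Cfsg.Agent.H79
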